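import Mathlib
import Groth.Prelude.Def_ChGrp
import Groth.Prelude.Def_W4bk4git07Quot
import Groth.Agent.ExtDesc.Basic

/-! Points calculus for balanced products. -/

set_option autoImplicit false
set_option linter.all false
set_option backward.isDefEq.respectTransparency.types false

universe u

open CategoryTheory Limits MonoidalCategory CartesianMonoidalCategory MonObj GrpObj AlgebraicGeometry

namespace Groth.Agent.BalProd6

variable {S : Scheme.{u}} {G H Z Y : Over S} [GrpObj G] [GrpObj H] {i : H ⟶ G} [IsMonHom i]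
  {aZ : AlgGrp.Action H Z} {aY : AlgGrp.Action G Y} {j : G ⊗ Z ⟶ Y}

lemma j_mul (h : ChGrp.IsBalProd Scheme.fppfPrecoverage i aZ aY j) {T : Over S} (g g' : T ⟶ G) (z : T ⟶ Z) :
    lift (g * g') z ≫ j = lift g (lift g' z ≫ j) ≫ aY.act := by
  have h1 : lift g (lift g' z) ≫ ((NonAbH1.trivialAction G).prod (AlgGrp.Action.trivial G Z)).act ≫ j =
      lift g (lift g' z) ≫ (G ◁ j) ≫ aY.act := congrArg (fun q => lift g (lift g' z) ≫ q) h.1
  rw [← Category.assoc, AlgGrp.Action.lift_prod_act, AlgGrp.Action.lift_trivial_act, lift_whiskerLeft_assoc] at h1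
  rw [← h1, Hom.mul_def]
  rfl

lemma j_twist (h : ChGrp.IsBalProd Scheme.fppfPrecoverage i aZ aY j) {T : Over S} (c : T ⟶ H) (g : T ⟶ G) (z : T ⟶ Z) :
    lift (g * (c ≫ i)⁻¹) (lift c z ≫ aZ.act) ≫ j = lift g z ≫ j := by
  rw [← ChGrp.lift_twist_act, Category.assoc, h.2.1.w, lift_snd_assoc]

lemma exists_twist (h : ChGrp.IsBalProd Scheme.fppfPrecoverage i aZ aY j) {T : Over S} {a b : T ⟶ G ⊗ Z}
    (hab : a ≫ j = b ≫ j) : ∃ c : T ⟶ H, lift c b ≫ (ChGrp.twist i aZ).act = a := by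
  refine ⟨h.2.1.lift a b hab ≫ fst _ _, ?_⟩
  have e : lift (h.2.1.lift a b hab ≫ fst _ _) b = h.2.1.lift a b hab := by
    conv_lhs => enter [2]; rw [← h.2.1.lift_snd a b hab]
    rw [← comp_lift, lift_fst_snd, Category.comp_id]
  rw [e, h.2.1.lift_fst]

lemma cover_j (h : ChGrp.IsBalProd Scheme.fppfPrecoverage i aZ aY j) : ExtDesc.Cover j :=
  ExtDesc.locSplit_of_isLocallyTrivialFor _ h.2.2

end Groth.Agent.BalProd6
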